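import Cfsg.Agent.Dichotomy.Elem
import Cfsg.Agent.Dichotomy.CoreTools
import Cfsg.Agent.Dichotomy.WTwo
set_option linter.all false

/-!
# The odd order subgroups `W_A` and `W_T`
-/

set_option autoImplicit false

namespace Cfsg.Agent.Dichotomy.Functor

open Cfsg
open Cfsg.Agent.Dichotomy.Elem

variable {G : Type*} [Group G]

/-- the cores of the centralizers of involutions are solvable and balanced -/
structure Fun (G : Type*) [Group G] : Prop where
  solv : ∀ a : G, orderOf a = 2 → Group.IsSolvable ↥(centralizerPPrimeCore 2 a)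
  bal : ∀ a b : G, orderOf a = 2 → orderOf b = 2 → a * b = b * a →
    centralizerPPrimeCore 2 a ⊓ Subgroup.centralizer ({b} : Set G) ≤ centralizerPPrimeCore 2 b

/-- the join of the `O(C_G(a))`, `a ∈ E`, `a ≠ 1` -/
def W (E : Subgroup G) : Subgroup G :=
  ⨆ a : {a : G // a ∈ E ∧ a ≠ 1}, centralizerPPrimeCore 2 (a : G)

theorem W_eq (E : Subgroup G) : W E = WTwo.W (fun a => centralizerPPrimeCore 2 a) E := rfl

theorem le_W (E : Subgroup G) {a : G} (ha : a ∈ E) (ha1 : a ≠ 1) :
    centralizerPPrimeCore 2 a ≤ W E :=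
  le_iSup (fun a : {a : G // a ∈ E ∧ a ≠ 1} => centralizerPPrimeCore 2 (a : G)) ⟨a, ha, ha1⟩

theorem W_le {E H : Subgroup G} (h : ∀ a ∈ E, a ≠ 1 → centralizerPPrimeCore 2 a ≤ H) :
    W E ≤ H :=
  iSup_le fun a => h a a.2.1 a.2.2

theorem th_le (a : G) : centralizerPPrimeCore 2 a ≤ Subgroup.centralizer ({a} : Set G) :=
  Subgroup.map_subtype_le _

section

variable [Finite G]

theorem th_conj (a g : G) : centralizerPPrimeCore 2 (g * a * g⁻¹) =
    (centralizerPPrimeCore 2 a).map (MulAut.conj g).toMonoidHom :=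
  CoreTools.core_conj 2 a g

theorem th_odd (a : G) : ¬ 2 ∣ Nat.card ↥(centralizerPPrimeCore 2 a) := CoreTools.core_card 2 a

theorem complete (hF : Fun G) {A : Subgroup G} (hA : Big A) :
    ¬ 2 ∣ Nat.card (W A) ∧
      ∀ a ∈ A, a ≠ 1 → W A ⊓ Subgroup.centralizer {a} = centralizerPPrimeCore 2 a :=
  WTwo.functor_complete 2 rfl (fun a => centralizerPPrimeCore 2 a)
    (fun a ha => ⟨th_le a, th_odd a, hF.solv a ha.1⟩) (fun a g _ => th_conj a g)
    (fun a b ha hb hab => hF.bal a b ha.1 hb.1 hab) hA.1 hA.2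

theorem W_eq_of_le (hF : Fun G) {A E : Subgroup G} (hA : Big A) (hEA : E ≤ A)
    (hE : 4 ≤ Nat.card E) : W E = W A :=
  WTwo.W_eq_of_le 2 rfl (fun a => centralizerPPrimeCore 2 a)
    (fun a ha => ⟨th_le a, th_odd a, hF.solv a ha.1⟩) (fun a g _ => th_conj a g)
    (fun a b ha hb hab => hF.bal a b ha.1 hb.1 hab) hA.1 hA.2 hEA hE

theorem W_four (hF : Fun G) {A : Subgroup G} (hA : Big A) {a b : G} (ha : a ∈ A) (hb : b ∈ A)
    (ha1 : a ≠ 1) (hb1 : b ≠ 1) (hne : a ≠ b) : W (four a b) = W A :=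
  W_eq_of_le hF hA (four_le ha hb)
    (card_four (elem_sq hA.1 ha) (elem_sq hA.1 hb) (elem_comm hA.1 a ha b hb) ha1 hb1 hne).ge

theorem W_conj_le (E : Subgroup G) (g : G) :
    (W E).map (MulAut.conj g).toMonoidHom ≤ W (E.map (MulAut.conj g).toMonoidHom) := by
  rw [W, Subgroup.map_iSup]
  refine iSup_le ?_
  rintro ⟨a, ha, ha1⟩
  change (centralizerPPrimeCore 2 a).map (MulAut.conj g).toMonoidHom ≤ _
  rw [← th_conj a g]
  refine le_W _ ⟨a, ha, rfl⟩ ?_
  intro h
  apply ha1
  have := congrArg (fun x => g⁻¹ * x * g) h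
  simpa [mul_assoc] using this

omit [Finite G] in
theorem map_conj_inv (E : Subgroup G) (g : G) :
    (E.map (MulAut.conj g).toMonoidHom).map (MulAut.conj g⁻¹).toMonoidHom = E := by
  ext x
  constructor
  · rintro ⟨_, ⟨y, hy, rfl⟩, rfl⟩
    simpa [mul_assoc] using hy
  · intro hx
    exact ⟨_, ⟨x, hx, rfl⟩, by simp [mul_assoc]⟩

theorem W_conj (E : Subgroup G) (g : G) :
    (W E).map (MulAut.conj g).toMonoidHom = W (E.map (MulAut.conj g).toMonoidHom) := by
  apply le_antisymm (W_conj_le E g)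
  have h := Subgroup.map_mono (f := (MulAut.conj g).toMonoidHom)
    (W_conj_le (E.map (MulAut.conj g).toMonoidHom) g⁻¹)
  rw [map_conj_inv] at h
  have h2 := map_conj_inv (W (E.map (MulAut.conj g).toMonoidHom)) g⁻¹
  rw [inv_inv] at h2
  rwa [h2] at h

omit [Finite G] in
theorem four_map (a b g : G) :
    (four a b).map (MulAut.conj g).toMonoidHom = four (g * a * g⁻¹) (g * b * g⁻¹) := by
  unfold four
  rw [MonoidHom.map_closure, Set.image_pair]
  rfl

theorem W_four_conj (a b g : G) :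
    (W (four a b)).map (MulAut.conj g).toMonoidHom = W (four (g * a * g⁻¹) (g * b * g⁻¹)) := by
  rw [W_conj, four_map]

omit [Finite G] in
theorem mem_normalizer_of_map_eq {K : Subgroup G} {g : G}
    (h : K.map (MulAut.conj g).toMonoidHom = K) : g ∈ Subgroup.normalizer (K : Set G) := by
  rw [Subgroup.mem_normalizer_iff]
  intro x
  constructor
  · intro hx
    have : g * x * g⁻¹ ∈ K.map (MulAut.conj g).toMonoidHom := ⟨x, hx, rfl⟩
    rwa [h] at this
  · intro hx
    have hx' : g * x * g⁻¹ ∈ K := hx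
    rw [← h] at hx'
    obtain ⟨y, hy, hyx⟩ := hx'
    have : y = x := by
      have h2 : g * y * g⁻¹ = g * x * g⁻¹ := hyx
      simpa using h2
    rwa [← this]

omit [Finite G] in
theorem map_eq_of_mem_normalizer {K : Subgroup G} {g : G}
    (h : g ∈ Subgroup.normalizer (K : Set G)) : K.map (MulAut.conj g).toMonoidHom = K := by
  rw [Subgroup.mem_normalizer_iff] at h
  ext x
  constructor
  · rintro ⟨y, hy, rfl⟩
    exact (h y).1 hy
  · intro hx
    refine ⟨g⁻¹ * x * g, (h _).2 ?_, by simp [mul_assoc]⟩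
    simpa [mul_assoc] using hx

theorem card_le_two {A B : Subgroup G} (a₀ : G)
    (h : ∀ a ∈ A, a ∈ B ∨ a₀ * a ∈ B) : Nat.card A ≤ 2 * Nat.card B := by
  classical
  let f : A → Bool × B := fun a =>
    if ha : (a : G) ∈ B then (true, ⟨a, ha⟩) else (false, ⟨a₀ * a, (h a a.2).resolve_left ha⟩)
  have hf : Function.Injective f := by
    intro x y hxy
    by_cases hx : (x : G) ∈ B <;> by_cases hy : (y : G) ∈ B
    · simp only [f, hx, hy, dif_pos, Prod.mk.injEq, true_and, Subtype.mk.injEq] at hxy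
      exact Subtype.ext hxy
    · simp [f, hx, hy] at hxy
    · simp [f, hx, hy] at hxy
    · simp only [f, hx, hy, Prod.mk.injEq, true_and, Subtype.mk.injEq,
        mul_right_inj, dite_false] at hxy
      exact Subtype.ext hxy
  have h1 := Nat.card_le_card_of_injective f hf
  rwa [Nat.card_prod, Nat.card_eq_fintype_card (α := Bool), Fintype.card_bool] at h1

/-- `T` a `2`-group, `⟨s, e⟩` a normal four-group of `T` with `s` central: every big subgroup `A`
of `T` has `W_A = W_{⟨s, e⟩}`, and `T` has an involution outside `⟨s, e⟩` commuting with `e`. -/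
theorem rank_lemma (hF : Fun G) {T A : Subgroup G} (hAT : A ≤ T) (hA : Big A) {s e : G}
    (hsT : s ∈ T) (hs2 : s * s = 1) (hs1 : s ≠ 1) (hsc : ∀ t ∈ T, t * s = s * t)
    (heT : e ∈ T) (he2 : e * e = 1) (he1 : e ≠ 1) (hes : e ≠ s)
    (hen : ∀ t ∈ T, t * e * t⁻¹ = e ∨ t * e * t⁻¹ = s * e) :
    (∃ B : Subgroup G, Big B ∧ B ≤ T ∧ s ∈ B ∧ e ∈ B ∧ W B = W A) ∧
    (∃ a ∈ T, a * a = 1 ∧ a * e = e * a ∧ a ≠ 1 ∧ a ≠ s ∧ a ≠ e ∧ a ≠ s * e) := by
  have hse : s * e = e * s := (hsc e heT).symm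
  set A₀ : Subgroup G := A ⊓ Subgroup.centralizer ({e} : Set G) with hA₀
  have hA₀A : A₀ ≤ A := inf_le_left
  have hA₀e : IsElementaryAbelian 2 A₀ := elem_mono hA.1 hA₀A
  have hcard : 4 ≤ Nat.card A₀ := by
    by_cases hle : A ≤ A₀
    · have := Subgroup.card_le_of_le hle
      have := hA.2
      omega
    · obtain ⟨a₀, ha₀, ha₀'⟩ := SetLike.not_le_iff_exists.1 hle
      have h1 : a₀ * e * a₀⁻¹ = s * e := by
        refine (hen a₀ (hAT ha₀)).resolve_left ?_
        intro h
        apply ha₀'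
        refine ⟨ha₀, Subgroup.mem_centralizer_singleton_iff.2 ?_⟩
        rwa [mul_inv_eq_iff_eq_mul] at h
      have h2 := card_le_two (A := A) (B := A₀) a₀ (by
        intro a ha
        rcases hen a (hAT ha) with h | h
        · left
          refine ⟨ha, Subgroup.mem_centralizer_singleton_iff.2 ?_⟩
          rwa [mul_inv_eq_iff_eq_mul] at h
        · right
          refine ⟨mul_mem ha₀ ha, Subgroup.mem_centralizer_singleton_iff.2 ?_⟩
          rw [← mul_inv_eq_iff_eq_mul]
          have h3 : a₀ * a * e * (a₀ * a)⁻¹ = a₀ * (a * e * a⁻¹) * a₀⁻¹ := by group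
          have h4 : a₀ * (s * e) * a₀⁻¹ = s * (a₀ * e * a₀⁻¹) := by
            have := hsc a₀ (hAT ha₀)
            rw [← mul_assoc, this]; group
          rw [h3, h, h4, h1, ← mul_assoc, hs2, one_mul])
      have := hA.2
      omega
  -- an element of `A₀` outside `⟨s, e⟩`
  have hex : ∃ a ∈ A₀, a ∉ four s e := by
    by_contra hcon
    push Not at hcon
    have h1 : A₀ ≤ four s e := hcon
    have h2 : A₀ = four s e := Subgroup.eq_of_le_of_card_ge h1
      (by rw [card_four hs2 he2 hse hs1 he1 hes.symm]; exact hcard)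
    have h3 : e ∈ A := hA₀A (h2 ▸ right_mem_four s e)
    have h4 : A ≤ A₀ := fun a ha => ⟨ha, Subgroup.mem_centralizer_singleton_iff.2
      (elem_comm hA.1 a ha e h3)⟩
    have h5 := Subgroup.card_le_of_le h4
    have h6 := hA.2
    rw [h2, card_four hs2 he2 hse hs1 he1 hes.symm] at h5
    omega
  obtain ⟨a, haA₀, ha4⟩ := hex
  have haA := hA₀A haA₀
  have hae : a * e = e * a := Subgroup.mem_centralizer_singleton_iff.1 haA₀.2
  rw [mem_four_iff hs2 he2 hse] at ha4
  push Not at ha4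
  refine ⟨?_, a, hAT haA, elem_sq hA.1 haA, hae, ha4.1, ha4.2.1, ha4.2.2.1, ha4.2.2.2⟩
  -- the join
  have hD : IsElementaryAbelian 2 (four s e ⊔ A₀) := by
    refine elem_sup (elem_four hs2 he2 hse) hA₀e ?_
    intro x hx y hy
    have hle : four s e ≤ Subgroup.centralizer ({y} : Set G) := by
      refine four_le (Subgroup.mem_centralizer_singleton_iff.2 (hsc y (hAT (hA₀A hy))).symm)
        (Subgroup.mem_centralizer_singleton_iff.2
          (Subgroup.mem_centralizer_singleton_iff.1 hy.2).symm)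
    exact Subgroup.mem_centralizer_singleton_iff.1 (hle hx)
  have hDB : Big (four s e ⊔ A₀) := by
    refine ⟨hD, card_ge hD ?_⟩
    rw [show (2 : ℕ) ^ 2 = 4 from rfl, ← card_four hs2 he2 hse hs1 he1 hes.symm]
    refine lt_of_le_of_ne (Subgroup.card_le_of_le le_sup_left) ?_
    intro h
    have h1 : four s e = four s e ⊔ A₀ := Subgroup.eq_of_le_of_card_ge le_sup_left h.ge
    have h2 : a ∈ four s e := by
      rw [h1]
      exact Subgroup.mem_sup_right haA₀
    rw [mem_four_iff hs2 he2 hse] at h2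
    rcases h2 with h | h | h | h
    · exact ha4.1 h
    · exact ha4.2.1 h
    · exact ha4.2.2.1 h
    · exact ha4.2.2.2 h
  refine ⟨four s e ⊔ A₀, hDB, sup_le (four_le hsT heT) (hA₀A.trans hAT),
    Subgroup.mem_sup_left (left_mem_four s e), Subgroup.mem_sup_left (right_mem_four s e), ?_⟩
  · rw [← W_eq_of_le hF hDB le_sup_right hcard, W_eq_of_le hF hA hA₀A hcard]

/-- a nontrivial `2`-group has a central involution -/
theorem exists_central_involution {T : Subgroup G} (hT : IsPGroup 2 T) (hne : T ≠ ⊥) :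
    ∃ z ∈ T, z * z = 1 ∧ z ≠ 1 ∧ ∀ t ∈ T, t * z = z * t := by
  have : Nontrivial T := (Subgroup.nontrivial_iff_ne_bot T).mpr hne
  have hc : Nontrivial (Subgroup.center T) := hT.center_nontrivial
  have hcard : 2 ∣ Nat.card (Subgroup.center T) := by
    refine ((hT.to_subgroup _).card_eq_or_dvd).resolve_left ?_
    exact (Finite.one_lt_card (α := Subgroup.center T)).ne'
  obtain ⟨z, hz⟩ := exists_prime_orderOf_dvd_card' 2 hcard
  have hz2 : orderOf ((z : T) : G) = 2 := by
    rw [Subgroup.orderOf_coe, Subgroup.orderOf_coe, hz]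
  refine ⟨(z : T), (z : T).2, sq_of_orderOf hz2, ne_one_of_orderOf hz2, ?_⟩
  intro t ht
  exact congrArg Subtype.val (Subgroup.mem_center_iff.1 z.2 ⟨t, ht⟩)

theorem W_eq_of_pgroup (hF : Fun G) {T A B : Subgroup G} (hT : IsPGroup 2 T) (hAT : A ≤ T)
    (hA : Big A) (hBT : B ≤ T) (hB : Big B) : W A = W B := by
  have hne : T ≠ ⊥ := by
    rintro rfl
    rw [le_bot_iff] at hAT
    have := hA.2
    rw [hAT, Subgroup.card_bot] at this
    norm_num at this
  obtain ⟨s, hsT, hs2, hs1, hsc⟩ := exists_central_involution hT hne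
  obtain ⟨e, heT, he2, he1, hes, hen⟩ := exists_e hT hAT hA hsT hs2 hs1 hsc
  obtain ⟨⟨D, hD, _, hsD, heD, hWD⟩, _⟩ :=
    rank_lemma hF hAT hA hsT hs2 hs1 hsc heT he2 he1 hes hen
  obtain ⟨⟨D', hD', _, hsD', heD', hWD'⟩, _⟩ :=
    rank_lemma hF hBT hB hsT hs2 hs1 hsc heT he2 he1 hes hen
  rw [← hWD, ← hWD', ← W_four hF hD hsD heD hs1 he1 hes.symm,
    W_four hF hD' hsD' heD' hs1 he1 hes.symm]

/-- `W_T` for a `2`-group `T` -/
def WW (T : Subgroup G) : Subgroup G := ⨆ A : {A : Subgroup G // A ≤ T ∧ Big A}, W (A : Subgroup G)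

theorem WW_eq (hF : Fun G) {T A : Subgroup G} (hT : IsPGroup 2 T) (hAT : A ≤ T) (hA : Big A) :
    WW T = W A := by
  apply le_antisymm
  · exact iSup_le fun B => (W_eq_of_pgroup hF hT B.2.1 B.2.2 hAT hA).le
  · exact le_iSup (fun B : {A : Subgroup G // A ≤ T ∧ Big A} => W (B : Subgroup G)) ⟨A, hAT, hA⟩

theorem WW_conj_le (T : Subgroup G) (g : G) :
    (WW T).map (MulAut.conj g).toMonoidHom ≤ WW (T.map (MulAut.conj g).toMonoidHom) := by
  rw [WW, Subgroup.map_iSup]
  refine iSup_le ?_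
  rintro ⟨A, hAT, hA⟩
  change (W A).map (MulAut.conj g).toMonoidHom ≤ _
  rw [W_conj]
  exact le_iSup (fun B : {A : Subgroup G // A ≤ T.map (MulAut.conj g).toMonoidHom ∧ Big A} =>
    W (B : Subgroup G)) ⟨A.map (MulAut.conj g).toMonoidHom, Subgroup.map_mono hAT,
      big_map hA (MulAut.conj g).injective⟩

theorem WW_conj (T : Subgroup G) (g : G) :
    (WW T).map (MulAut.conj g).toMonoidHom = WW (T.map (MulAut.conj g).toMonoidHom) := by
  apply le_antisymm (WW_conj_le T g)
  have h := Subgroup.map_mono (f := (MulAut.conj g).toMonoidHom)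
    (WW_conj_le (T.map (MulAut.conj g).toMonoidHom) g⁻¹)
  rw [map_conj_inv] at h
  have h2 := map_conj_inv (WW (T.map (MulAut.conj g).toMonoidHom)) g⁻¹
  rw [inv_inv] at h2
  rwa [h2] at h

/-- `T` normalises `W_T` -/
theorem le_normalizer_WW (T : Subgroup G) :
    Subgroup.normalizer (T : Set G) ≤ Subgroup.normalizer (WW T : Set G) := by
  intro g hg
  apply mem_normalizer_of_map_eq
  rw [WW_conj, map_eq_of_mem_normalizer hg]

end

end Cfsg.Agent.Dichotomy.Functor
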